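import Groth.Agent.DimTrdegLib.Basic
import Groth.Agent.FibDimLib.ClosureDim
import Mathlib

/-! # Fibres over a valuation ring of an irreducible scheme -/

set_option autoImplicit false
universe u
open CategoryTheory CategoryTheory.Limits AlgebraicGeometry TopologicalSpace IsLocalRing
open scoped TensorProduct

namespace ValFibreLib

theorem exists_fibre_embedding {R : Type u} [CommRing R] {X : Scheme.{u}} (f : X ⟶ Spec (CommRingCat.of R))
    (C : Type u) [CommRing C] [Algebra R C] (j : PrimeSpectrum C → X) (hj : Topology.IsOpenEmbedding j)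
    (hfj : ∀ P, f.base (j P) = PrimeSpectrum.comap (algebraMap R C) P) (p : PrimeSpectrum R) :
    ∃ e : PrimeSpectrum (p.asIdeal.Fiber C) → f.fiber p, Topology.IsOpenEmbedding e ∧
      (∀ Q, (f.fiberι p).base (e Q) =
        j (((PrimeSpectrum.preimageHomeomorphFiber R C p).symm Q : PrimeSpectrum C))) := by
  let H := PrimeSpectrum.preimageHomeomorphFiber R C p
  have hsub : j ⁻¹' (f.base ⁻¹' {p}) = PrimeSpectrum.comap (algebraMap R C) ⁻¹' {p} := by
    ext P
    simp only [Set.mem_preimage, Set.mem_singleton_iff]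
    rw [hfj]; exact Iff.rfl
  have h1 : Topology.IsOpenEmbedding ((Set.restrictPreimage (f.base ⁻¹' {p}) j)) := hj.restrictPreimage _
  let e2 := Homeomorph.setCongr hsub.symm
  have h3 := (((f.fiberHomeo p).symm.isOpenEmbedding.comp h1).comp e2.isOpenEmbedding).comp H.symm.isOpenEmbedding
  refine ⟨_, h3, fun Q => ?_⟩
  simp only [Function.comp_apply]
  exact (f.fiberι_fiberHomeo_symm p _).trans rfl

set_option maxHeartbeats 1600000 in
set_option synthInstance.maxHeartbeats 200000 in
theorem dim_component_eq {R : Type u} [CommRing R] [IsDomain R] [ValuationRing R]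
    {X : Scheme.{u}} [IrreducibleSpace ↥X] (f : X ⟶ Spec (CommRingCat.of R)) [LocallyOfFiniteType f] [Surjective f]
    (Z : Set ↥(f.fiber (closedPoint R))) (hZ : Z ∈ irreducibleComponents ↥(f.fiber (closedPoint R))) :
    topologicalKrullDim ↥Z = topologicalKrullDim ↥(f.fiber (⟨⊥, Ideal.isPrime_bot⟩ : PrimeSpectrum R)) := by
  classical
  have hZirr : IsIrreducible Z := hZ.1
  let ζ := hZirr.genericPoint
  have hζcl : closure ({ζ} : Set _) = Z := by
    rw [hZirr.isGenericPoint_genericPoint_closure.def,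
      (isClosed_of_mem_irreducibleComponents Z hZ).closure_eq]
  let x : X := (f.fiberι (closedPoint R)).base ζ
  obtain ⟨_, ⟨V, hV, rfl⟩, hxV, -⟩ := X.isBasis_affineOpens.exists_subset_of_mem_open (Set.mem_univ x) isOpen_univ
  obtain ⟨φ, hφ⟩ : ∃ φ : CommRingCat.of R ⟶ Γ(X, V), Spec.map φ = hV.fromSpec ≫ f := Spec.map_surjective _
  letI : Algebra R Γ(X, V) := φ.hom.toAlgebra
  haveI : Algebra.FiniteType R Γ(X, V) := RingHom.finiteType_algebraMap.mp
    ((HasRingHomProperty.Spec_iff (P := @LocallyOfFiniteType)).mp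
      (hφ ▸ (inferInstance : LocallyOfFiniteType (hV.fromSpec ≫ f))))
  let N := nilradical Γ(X, V)
  let C := Γ(X, V) ⧸ N
  let cm := PrimeSpectrum.comap (Ideal.Quotient.mk N)
  have hcm : IsHomeomorph cm :=
    isHomeomorph_iff_isEmbedding_surjective.2
      ⟨(PrimeSpectrum.isClosedEmbedding_comap_of_surjective _ _ Ideal.Quotient.mk_surjective).isEmbedding,
        fun P => ⟨⟨P.asIdeal.map (Ideal.Quotient.mk N), Ideal.map_isPrime_of_surjective Ideal.Quotient.mk_surjective
            (by rw [Ideal.mk_ker]; exact nilradical_le_prime P.asIdeal)⟩, PrimeSpectrum.ext (by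
          show Ideal.comap (Ideal.Quotient.mk N) (P.asIdeal.map (Ideal.Quotient.mk N)) = P.asIdeal
          rw [Ideal.comap_map_of_surjective' _ Ideal.Quotient.mk_surjective, Ideal.mk_ker, sup_eq_left]
          exact nilradical_le_prime P.asIdeal)⟩⟩
  let j : PrimeSpectrum C → X := fun P => hV.fromSpec.base (cm P)
  have hj : Topology.IsOpenEmbedding j := hV.fromSpec.isOpenEmbedding.comp hcm.isOpenEmbedding
  have hfj : ∀ P, f.base (j P) = PrimeSpectrum.comap (algebraMap R C) P := fun P => by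
    have h := congr($(hφ).base (cm P))
    exact h.symm.trans rfl
  haveI : IrreducibleSpace ↥(V : Set X) := by
    rw [← isIrreducible_iff_irreducibleSpace]
    exact ⟨⟨x, hxV⟩, (IrreducibleSpace.isIrreducible_univ X).2.open_subset V.isOpen (Set.subset_univ _)⟩
  have hgen : genericPoint ↥X ∈ V := ((genericPoint_spec ↥X).mem_open_set_iff V.isOpen).2 ⟨x, trivial, hxV⟩
  obtain ⟨P0, hP0⟩ : ∃ P0, j P0 = genericPoint ↥X := by
    have h : genericPoint ↥X ∈ Set.range hV.fromSpec.base := by rw [hV.range_fromSpec]; exact hgen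
    obtain ⟨P, hP⟩ := h
    obtain ⟨P', hP'⟩ := hcm.surjective P
    exact ⟨P', by rw [← hP, ← hP']⟩
  have hP0le : ∀ P, P0 ≤ P := fun P => (PrimeSpectrum.le_iff_specializes P0 P).2
    (hj.toIsInducing.specializes_iff.1 (by rw [hP0]; exact genericPoint_specializes _))
  haveI : _root_.IsReduced C := (Ideal.isRadical_iff_quotient_reduced N).1 (Ideal.radical_isRadical _)
  have hP0bot : P0.asIdeal = ⊥ := by
    refine le_bot_iff.1 ?_
    rw [show (⊥ : Ideal C) = nilradical C from (nilradical_eq_zero C).symm, nilradical_eq_sInf]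
    exact le_sInf fun P hP => hP0le ⟨P, hP⟩
  haveI : IsDomain C := by
    have : (⊥ : Ideal C).IsPrime := hP0bot ▸ P0.isPrime
    haveI := Ideal.Quotient.isDomain (⊥ : Ideal C)
    exact MulEquiv.isDomain (C ⧸ (⊥ : Ideal C)) (RingEquiv.quotientBot C).symm.toMulEquiv
  have hfη : f.base (genericPoint ↥X) = (⟨⊥, Ideal.isPrime_bot⟩ : PrimeSpectrum R) := by
    obtain ⟨w, hw⟩ := f.surjective (⟨⊥, Ideal.isPrime_bot⟩ : PrimeSpectrum R)
    have h : f.base (genericPoint ↥X) ⤳ f.base w := (genericPoint_specializes w).map f.continuous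
    rw [show f.base w = _ from hw] at h
    exact PrimeSpectrum.ext (le_bot_iff.1 ((PrimeSpectrum.le_iff_specializes _ _).2 h))
  haveI : FaithfulSMul R C := by
    rw [faithfulSMul_iff_algebraMap_injective, RingHom.injective_iff_ker_eq_bot]
    have h := hfj P0
    rw [hP0, hfη] at h
    have h' := congrArg PrimeSpectrum.asIdeal h
    rw [show (PrimeSpectrum.comap (algebraMap R C) P0).asIdeal = P0.asIdeal.comap (algebraMap R C) from rfl, hP0bot] at h'
    exact h'.symm
  -- the generic fibre
  obtain ⟨e₀, he₀, he₀ι⟩ := exists_fibre_embedding f C j hj hfj ⟨⊥, Ideal.isPrime_bot⟩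
  obtain ⟨t, ht, httr⟩ := DimTrdegLib.dim_generic_fibre (A := R) (C := C)
  let G0 := (PrimeSpectrum.preimageHomeomorphFiber R C ⟨⊥, Ideal.isPrime_bot⟩)
    ⟨P0, show PrimeSpectrum.comap (algebraMap R C) P0 = _ from (hfj P0).symm.trans (by rw [hP0]; exact hfη)⟩
  have hη' : (f.fiberι (⟨⊥, Ideal.isPrime_bot⟩ : PrimeSpectrum R)).base (e₀ G0) = genericPoint ↥X := by
    rw [he₀ι]
    simp only [G0, Homeomorph.symm_apply_apply]
    exact hP0
  have hcl0 : closure ({e₀ G0} : Set _) = Set.univ := by
    rw [(f.fiberι _).isEmbedding.closure_eq_preimage_closure_image, Set.image_singleton, hη',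
      (genericPoint_spec ↥X).def, Set.preimage_univ]
  have hcl0' : closure ({G0} : Set _) = Set.univ := by
    rw [he₀.isEmbedding.closure_eq_preimage_closure_image, Set.image_singleton, hcl0, Set.preimage_univ]
  have hgenfib : topologicalKrullDim ↥(f.fiber (⟨⊥, Ideal.isPrime_bot⟩ : PrimeSpectrum R)) = t := by
    have h := @FibDimLib.topologicalKrullDim_closure_of_isOpenEmbedding _ _ _
      (f.fiberToSpecResidueField (⟨⊥, Ideal.isPrime_bot⟩ : PrimeSpectrum R)) (UOpenLib.lft_fiberToSpec f _) _ _ e₀ he₀ G0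
    rw [hcl0, hcl0', IsHomeomorph.topologicalKrullDim_eq _ (Homeomorph.Set.univ _).isHomeomorph,
      IsHomeomorph.topologicalKrullDim_eq _ (Homeomorph.Set.univ _).isHomeomorph,
      PrimeSpectrum.topologicalKrullDim_eq_ringKrullDim, ht] at h
    exact h.symm
  -- the special fibre
  obtain ⟨e₁, he₁, he₁ι⟩ := exists_fibre_embedding f C j hj hfj (closedPoint R)
  obtain ⟨Q', hQ'⟩ : ∃ Q', e₁ Q' = ζ := by
    have h : x ∈ Set.range hV.fromSpec.base := by rw [hV.range_fromSpec]; exact hxV
    obtain ⟨P, hP⟩ := h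
    obtain ⟨P', hP'⟩ := hcm.surjective P
    have hjP : j P' = x := by rw [← hP, ← hP']
    have hpc : PrimeSpectrum.comap (algebraMap R C) P' = closedPoint R := by
      rw [← hfj, hjP]
      have h := f.range_fiberι (closedPoint R)
      exact h.subset ⟨ζ, rfl⟩
    refine ⟨PrimeSpectrum.preimageHomeomorphFiber R C (closedPoint R) ⟨P', hpc⟩, ?_⟩
    apply (f.fiberι (closedPoint R)).isEmbedding.injective
    rw [he₁ι, Homeomorph.symm_apply_apply]
    exact hjP
  have hmin : Q'.asIdeal ∈ minimalPrimes ((maximalIdeal R).Fiber C) := by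
    rw [minimalPrimes_eq_minimals]
    refine ⟨Q'.isPrime, fun J hJ hJQ => ?_⟩
    have hsp : e₁ ⟨J, hJ⟩ ⤳ ζ := hQ' ▸ ((PrimeSpectrum.le_iff_specializes ⟨J, hJ⟩ Q').1 hJQ).map he₁.continuous
    have hsub : Z ⊆ closure ({e₁ ⟨J, hJ⟩} : Set _) :=
      hζcl ▸ closure_minimal (Set.singleton_subset_iff.2 hsp.mem_closure) isClosed_closure
    have heq : closure ({e₁ ⟨J, hJ⟩} : Set _) = Z :=
      (hZ.2 (isIrreducible_singleton.closure) hsub).antisymm hsub
    have : e₁ ⟨J, hJ⟩ = ζ := (specializes_iff_mem_closure.2 (by rw [heq, ← hζcl]; exact subset_closure rfl)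
      |>.antisymm (specializes_iff_mem_closure.2 (by rw [hζcl, ← heq]; exact subset_closure rfl))).eq
    exact (congrArg PrimeSpectrum.asIdeal (he₁.injective (this.trans hQ'.symm))).symm.le
  let ι := (Algebra.TensorProduct.includeRight : C →ₐ[R] (maximalIdeal R).Fiber C)
  let q : Ideal C := Q'.asIdeal.comap ι.toRingHom
  haveI : q.IsPrime := Ideal.IsPrime.comap _
  haveI : q.LiesOver (maximalIdeal R) := by
    constructor
    have h := ((PrimeSpectrum.preimageHomeomorphFiber R C (closedPoint R)).symm Q').2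
    exact (congrArg PrimeSpectrum.asIdeal h).symm
  haveI : Module.Flat R (Localization.AtPrime q) := by
    haveI : FaithfulSMul R (Localization.AtPrime q) := by
      rw [faithfulSMul_iff_algebraMap_injective, IsScalarTower.algebraMap_eq R C, RingHom.coe_comp]
      exact (IsLocalization.injective (Localization.AtPrime q) q.primeCompl_le_nonZeroDivisors).comp
        (FaithfulSMul.algebraMap_injective R C)
    haveI : IsDomain (Localization.AtPrime q) := IsLocalization.isDomain_localization q.primeCompl_le_nonZeroDivisors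
    rw [Module.Flat.flat_iff_torsion_eq_bot_of_isBezout, ← Submodule.isTorsionFree_iff_torsion_eq_bot]
    infer_instance
  obtain ⟨Q, hQp, d, e, hQ, hd, he, hde⟩ := DimTrdegLib.formula (A := R) q inferInstance
  have hQQ : (⟨Q, hQp⟩ : PrimeSpectrum ((maximalIdeal R).Fiber C)) = Q' := by
    apply (PrimeSpectrum.preimageHomeomorphFiber R C (closedPoint R)).symm.injective
    exact Subtype.ext (PrimeSpectrum.ext hQ)
  subst hQQ
  have hd0 : d = 0 := by
    have h := IsLocalization.AtPrime.ringKrullDim_eq_height Q (Localization.AtPrime Q)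
    rw [hd, Ideal.height_eq_zero_iff.2 hmin] at h
    exact_mod_cast h
  have hdimZ : topologicalKrullDim ↥Z = ringKrullDim (((maximalIdeal R).Fiber C) ⧸ Q) := by
    rw [← hζcl, ← hQ', ← @FibDimLib.topologicalKrullDim_closure_of_isOpenEmbedding _ _ _
      (f.fiberToSpecResidueField (closedPoint R)) (UOpenLib.lft_fiberToSpec f _) _ _ e₁ he₁]
    exact FibDimLib.topologicalKrullDim_closure_prime (⟨Q, hQp⟩ : PrimeSpectrum ((maximalIdeal R).Fiber C))
  obtain ⟨s, hs, hs'⟩ := WeilLib.dim_eq_trdeg (maximalIdeal R).ResidueField (((maximalIdeal R).Fiber C) ⧸ Q)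
    (FractionRing (((maximalIdeal R).Fiber C) ⧸ Q))
  rw [DimTrdegLib.trdeg_fractionRing_eq (maximalIdeal R).ResidueField (((maximalIdeal R).Fiber C) ⧸ Q)
    (FractionRing (((maximalIdeal R).Fiber C) ⧸ Q)), he] at hs'
  have hse : s = e := (Nat.cast_inj.mp hs'.symm)
  have hte : t = e := by
    rw [httr, hd0, zero_add] at hde
    exact Nat.cast_inj.mp hde
  rw [hdimZ, hgenfib, hs, hse, hte]

end ValFibreLib
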